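import Groth.Agent.QCoh.Stalk
import Groth.Agent.QCoh.Pullback
import Groth.Agent.QCoh.Qcqs
import Groth.Agent.QCoh.Support
import Groth.Agent.QCoh.Extension
import Groth.Agent.RGLib.SqZeroHom
import Groth.Agent.FlatSyz5.Resolution
import Groth.Agent.FlatMisc.RingPullback
import Mathlib.AlgebraicGeometry.Morphisms.Flat
import Mathlib.Algebra.Category.ModuleCat.Projective

/-!
# Quasi-coherent modules are quotients of flat ones when affines meet in affines
-/

set_option autoImplicit false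
set_option linter.style.haveILetI false
set_option backward.isDefEq.respectTransparency false
set_option backward.isDefEq.respectTransparency.types false
set_option maxHeartbeats 1000000

universe u

open CategoryTheory CategoryTheory.Limits AlgebraicGeometry TopologicalSpace Opposite

namespace Groth.Agent.FlatCover

open Groth.Agent.QCoh

variable {X : Scheme.{u}}

theorem epi_of_affine_surjective {M N : X.Modules} (hM : Coh.IsQCoh M) (hN : Coh.IsQCoh N) (φ : M ⟶ N)
    (h : ∀ U : X.Opens, IsAffineOpen U → Function.Surjective (φ.app U)) : Epi φ := by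
  refine Preadditive.epi_of_cokernel_zero ?_
  refine IsZero.eq_of_tgt (isZero_of_cover (isQCoh_cokernel hM hN φ) (fun U : X.affineOpens => U.1) (fun U => U.2)
    (fun x => let ⟨_, ⟨U, hU, rfl⟩, hx, _⟩ :=
      X.isBasis_affineOpens.exists_subset_of_mem_open (Set.mem_univ x) isOpen_univ
      ⟨⟨U, hU⟩, hx⟩)
    fun U => subsingleton_of_forall_eq 0 fun z => ?_) _ _
  obtain ⟨y, rfl⟩ := app_surjective_of_epi hN (isQCoh_cokernel hM hN φ) (cokernel.π φ) U.2 z
  obtain ⟨w, rfl⟩ := h U.1 U.2 y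
  exact congrArg (fun ψ => Scheme.Modules.Hom.app ψ U.1 w) (cokernel.condition φ)

/-- A quasi-coherent module on a spectrum is a quotient of a flat one. -/
theorem exists_flat_cover_spec {R : CommRingCat.{u}} {N : (Spec R).Modules} (hN : Coh.IsQCoh N) :
    ∃ (P : (Spec R).Modules) (π : P ⟶ N), Coh.IsQCoh P ∧ FlatMod.IsFlat P ∧ Epi π := by
  obtain ⟨M', ⟨e⟩⟩ := isQCoh_spec_iff.1 hN
  let F : ModuleCat.{u} R := ModuleCat.of R (M' →₀ R)
  let p : F ⟶ M' := ModuleCat.ofHom (Finsupp.linearCombination R id)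
  haveI : Epi p := (ModuleCat.epi_iff_surjective p).2 fun m => ⟨Finsupp.single m 1,
    (Finsupp.linearCombination_single R 1 m).trans (one_smul R m)⟩
  haveI : Epi (tilde.map p) := inferInstanceAs (Epi ((tilde.functor R).map p))
  refine ⟨tilde F, tilde.map p ≫ e.hom, (inferInstance : Coh.IsQCoh (tilde F)), fun x => ?_, epi_comp _ _⟩
  refine (flat_sections_iff (inferInstance : Coh.IsQCoh (tilde F)) (isAffineOpen_top _)).1 ?_ x trivial
  let iR := Scheme.ΓSpecIso R
  letI : Module R Γ(tilde F, ⊤) := Module.compHom _ iR.inv.hom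
  let e0 := ((tilde.toTildeΓNatIso (R := R)).app F).toLinearEquiv
  let eF : F ≃ₗ[R] Γ(tilde F, ⊤) :=
    { toFun := fun m => (show Γ(tilde F, ⊤) from e0 m)
      invFun := fun z => e0.symm z
      left_inv := e0.symm_apply_apply
      right_inv := e0.apply_symm_apply
      map_add' := map_add e0
      map_smul' := fun a m => map_smul e0 a m }
  haveI : Module.Flat R Γ(tilde F, ⊤) := Module.Flat.of_linearEquiv eF.symm
  letI : Algebra Γ(Spec R, ⊤) R := iR.hom.hom.toAlgebra
  haveI : IsScalarTower Γ(Spec R, ⊤) R Γ(tilde F, ⊤) := IsScalarTower.of_algebraMap_smul fun a z =>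
    congrArg (fun r => r • z) (iR.hom_inv_id_apply a)
  haveI : Module.Flat Γ(Spec R, ⊤) R := Module.Flat.of_linearEquiv
    (LinearEquiv.ofBijective (Algebra.linearMap Γ(Spec R, ⊤) R) (ConcreteCategory.bijective_of_isIso iR.hom)).symm
  exact Module.Flat.trans Γ(Spec R, ⊤) R Γ(tilde F, ⊤)

/-- One step: the cover becomes flat over one more affine open. -/
theorem exists_step (hd : ∀ V W : X.Opens, IsAffineOpen V → IsAffineOpen W → IsAffineOpen (V ⊓ W))
    {M : X.Modules} (hM : Coh.IsQCoh M) {U : X.Opens} (hU : IsAffineOpen U) (G : X.Opens)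
    (hG : ∀ x ∈ G, FlatMod.IsFlatAt M x) :
    ∃ (E : X.Modules) (π : E ⟶ M), Coh.IsQCoh E ∧ Epi π ∧ ∀ x ∈ G ⊔ U, FlatMod.IsFlatAt E x := by
  let j := hU.fromSpec
  haveI : IsAffineHom j := ⟨fun V hV => by
    refine j.isAffineOpen_iff_of_isOpenImmersion.1 ?_
    rw [Scheme.Hom.image_preimage_eq_opensRange_inf, hU.opensRange_fromSpec]
    exact hd U V hU hV⟩
  let η : M ⟶ (Scheme.Modules.pushforward j).obj (M.restrict j) := (Scheme.Modules.restrictAdjunction j).unit.app M
  have hN : Coh.IsQCoh (M.restrict j) := isQCoh_restrict j hM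
  obtain ⟨P, π, hP, hPf, hπ⟩ := exists_flat_cover_spec hN
  let P' := (Scheme.Modules.pushforward j).obj P
  let N' := (Scheme.Modules.pushforward j).obj (M.restrict j)
  have hP' : Coh.IsQCoh P' := isQCoh_pushforward j hP
  have hN' : Coh.IsQCoh N' := isQCoh_pushforward j hN
  let α : P' ⟶ N' := (Scheme.Modules.pushforward j).map π
  have hα : ∀ V : X.Opens, IsAffineOpen V → Function.Surjective (α.app V) := fun V hV =>
    app_surjective_of_epi hP hN π (hV.preimage j)
  have hQ : Coh.IsQCoh (M ⊞ P') := RGLib.SqZeroHom.isQCoh_biprod hM hP'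
  let g : M ⊞ P' ⟶ N' := biprod.desc η (-α)
  let E := kernel g
  have hE : Coh.IsQCoh E := isQCoh_kernel hQ hN' g
  let pM : E ⟶ M := kernel.ι g ≫ biprod.fst
  let pP : E ⟶ P' := kernel.ι g ≫ biprod.snd
  haveI : Epi g := by
    haveI : Epi α := epi_of_affine_surjective hP' hN' α hα
    refine ⟨fun a b h => ?_⟩
    rw [← cancel_epi α, ← neg_inj, ← Preadditive.neg_comp, ← Preadditive.neg_comp]
    simpa [g] using (biprod.inr : P' ⟶ M ⊞ P') ≫= h
  have hSE : (ShortComplex.mk (kernel.ι g) g (kernel.condition g)).ShortExact :=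
    { exact := ShortComplex.exact_kernel g, mono_f := inferInstance, epi_g := inferInstance }
  -- sections of `E`
  have hbi : ∀ (V : X.Opens) (s : Γ(M ⊞ P', V)),
      s = (biprod.inl : M ⟶ M ⊞ P').app V ((biprod.fst : M ⊞ P' ⟶ M).app V s) +
        (biprod.inr : P' ⟶ M ⊞ P').app V ((biprod.snd : M ⊞ P' ⟶ P').app V s) := fun V s => by
    have h := congrArg (fun φ : M ⊞ P' ⟶ M ⊞ P' => φ.app V s) (biprod.total (X := M) (Y := P'))
    simp only [Scheme.Modules.Hom.add_app, Scheme.Modules.Hom.comp_app, Scheme.Modules.Hom.id_app] at h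
    exact h.symm
  have hgs : ∀ (V : X.Opens) (s : Γ(M ⊞ P', V)), g.app V s =
      η.app V ((biprod.fst : M ⊞ P' ⟶ M).app V s) - α.app V ((biprod.snd : M ⊞ P' ⟶ P').app V s) := fun V s => by
    have h : g = biprod.fst ≫ η - biprod.snd ≫ α := by
      apply biprod.hom_ext' <;> simp [g]
    rw [h]
    rfl
  have hsq : ∀ (V : X.Opens) (e : Γ(E, V)), η.app V (pM.app V e) = α.app V (pP.app V e) := fun V e => by
    rw [← sub_eq_zero]
    exact (hgs V ((kernel.ι g).app V e)).symm.trans
      (congrArg (fun φ : E ⟶ N' => φ.app V e) (kernel.condition g))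
  have hex : ∀ (V : X.Opens) (m : Γ(M, V)) (p : Γ(P', V)), η.app V m = α.app V p →
      ∃ e : Γ(E, V), pM.app V e = m ∧ pP.app V e = p := fun V m p h => by
    let s : Γ(M ⊞ P', V) := (biprod.inl : M ⟶ M ⊞ P').app V m + (biprod.inr : P' ⟶ M ⊞ P').app V p
    have h1 : (biprod.fst : M ⊞ P' ⟶ M).app V s = m := by
      simp only [s, map_add, ← CategoryTheory.comp_apply, ← Scheme.Modules.Hom.comp_app, biprod.inl_fst,
        biprod.inr_fst, Scheme.Modules.Hom.id_app, Scheme.Modules.Hom.zero_app]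
      exact add_zero m
    have h2 : (biprod.snd : M ⊞ P' ⟶ P').app V s = p := by
      simp only [s, map_add, ← CategoryTheory.comp_apply, ← Scheme.Modules.Hom.comp_app, biprod.inl_snd,
        biprod.inr_snd, Scheme.Modules.Hom.id_app, Scheme.Modules.Hom.zero_app]
      exact zero_add p
    obtain ⟨e, he⟩ := exists_app_f_eq hSE V s (by
      show g.app V s = 0
      rw [hgs, h1, h2, h, sub_self])
    exact ⟨e, (congrArg ((biprod.fst : M ⊞ P' ⟶ M).app V) he).trans h1,
      (congrArg ((biprod.snd : M ⊞ P' ⟶ P').app V) he).trans h2⟩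
  have hinj : ∀ (V : X.Opens) (e : Γ(E, V)), pM.app V e = 0 → pP.app V e = 0 → e = 0 := fun V e h1 h2 => by
    refine app_f_injective hSE V ?_
    show (kernel.ι g).app V e = (kernel.ι g).app V 0
    rw [map_zero, hbi V ((kernel.ι g).app V e)]
    rw [show (biprod.fst : M ⊞ P' ⟶ M).app V ((kernel.ι g).app V e) = 0 from h1,
      show (biprod.snd : M ⊞ P' ⟶ P').app V ((kernel.ι g).app V e) = 0 from h2, map_zero, map_zero, add_zero]
  refine ⟨E, pM, hE, epi_of_affine_surjective hE hM pM fun V hV m => ?_, fun x hx => ?_⟩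
  · obtain ⟨p, hp⟩ := hα V hV (η.app V m)
    obtain ⟨e, he, -⟩ := hex V m p hp.symm
    exact ⟨e, he⟩
  -- flatness
  haveI : Flat j := inferInstance
  have hP'f : ∀ V : X.Opens, IsAffineOpen V → Module.Flat Γ(X, V) Γ(P', V) := fun V hV => by
    letI : Algebra Γ(X, V) Γ(Spec Γ(X, U), j ⁻¹ᵁ V) := (j.appLE V (j ⁻¹ᵁ V) le_rfl).hom.toAlgebra
    haveI : Module.Flat Γ(X, V) Γ(Spec Γ(X, U), j ⁻¹ᵁ V) := j.flat_appLE hV (hV.preimage j) le_rfl
    haveI : Module.Flat Γ(Spec Γ(X, U), j ⁻¹ᵁ V) Γ(P, j ⁻¹ᵁ V) :=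
      (flat_sections_iff hP (hV.preimage j)).2 fun y _ => hPf y
    letI : Module Γ(X, V) Γ(P, j ⁻¹ᵁ V) := Module.compHom _ (j.appLE V (j ⁻¹ᵁ V) le_rfl).hom
    haveI : IsScalarTower Γ(X, V) Γ(Spec Γ(X, U), j ⁻¹ᵁ V) Γ(P, j ⁻¹ᵁ V) :=
      IsScalarTower.of_algebraMap_smul fun _ _ => rfl
    haveI := Module.Flat.trans Γ(X, V) Γ(Spec Γ(X, U), j ⁻¹ᵁ V) Γ(P, j ⁻¹ᵁ V)
    let e : Γ(P, j ⁻¹ᵁ V) ≃ₗ[Γ(X, V)] Γ(P', V) :=
      { toFun := fun m => m
        invFun := fun m => m
        left_inv := fun _ => rfl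
        right_inv := fun _ => rfl
        map_add' := fun _ _ => rfl
        map_smul' := fun a m => by
          show (j.appLE V (j ⁻¹ᵁ V) le_rfl).hom a • m = (j.app V).hom a • m
          rw [Scheme.Hom.app_eq_appLE] }
    exact Module.Flat.of_linearEquiv e.symm
  obtain ⟨V, hV, hxV, hVle⟩ : ∃ V : X.Opens, IsAffineOpen V ∧ x ∈ V ∧ (V ≤ G ∨ V ≤ U) := by
    rcases hx with h | h <;>
    · obtain ⟨_, ⟨V, hV, rfl⟩, hxV, hle⟩ :=
        X.isBasis_affineOpens.exists_subset_of_mem_open h (Opens.isOpen _)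
      exact ⟨V, hV, hxV, by first | exact Or.inl hle | exact Or.inr hle⟩
  refine (flat_sections_iff hE hV).1 ?_ x hxV
  haveI := hP'f V hV
  rcases hVle with hVG | hVU
  · haveI : Module.Flat Γ(X, V) Γ(M, V) := (flat_sections_iff hM hV).2 fun y hy => hG y (hVG hy)
    haveI : Module.Flat Γ(X, V) Γ(N', V) := by
      let W : X.Opens := j ''ᵁ (j ⁻¹ᵁ V)
      have hWV : W ≤ V := j.image_preimage_le V
      have hW : IsAffineOpen W := (hV.preimage j).image_of_isOpenImmersion j
      letI : Algebra Γ(X, V) Γ(X, W) := ((𝟙 X : X ⟶ X).appLE V W hWV).hom.toAlgebra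
      haveI : Module.Flat Γ(X, V) Γ(X, W) := (𝟙 X : X ⟶ X).flat_appLE hV hW hWV
      haveI : Module.Flat Γ(X, W) Γ(M, W) := (flat_sections_iff hM hW).2 fun y hy => hG y (hVG (hWV hy))
      letI : Module Γ(X, V) Γ(M, W) := Module.compHom _ ((𝟙 X : X ⟶ X).appLE V W hWV).hom
      haveI : IsScalarTower Γ(X, V) Γ(X, W) Γ(M, W) := IsScalarTower.of_algebraMap_smul fun _ _ => rfl
      haveI := Module.Flat.trans Γ(X, V) Γ(X, W) Γ(M, W)
      let e : Γ(M, W) ≃ₗ[Γ(X, V)] Γ(N', V) :=
        { toFun := fun m => m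
          invFun := fun m => m
          left_inv := fun _ => rfl
          right_inv := fun _ => rfl
          map_add' := fun _ _ => rfl
          map_smul' := fun a m => by
            show ((𝟙 X : X ⟶ X).appLE V W hWV).hom a • m =
              (j.appIso (j ⁻¹ᵁ V)).inv ((j.app V).hom a) • m
            congr 1
            rw [← CommRingCat.comp_apply, Scheme.Hom.app_appIso_inv, Scheme.Hom.appLE]
            simp
            rfl }
      exact Module.Flat.of_linearEquiv e.symm
    let q : (Γ(M, V) × Γ(P', V)) →ₗ[Γ(X, V)] Γ(N', V) :=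
      { toFun := fun z => η.app V z.1 - α.app V z.2
        map_add' := fun z z' => by
          show η.app V (z.1 + z'.1) - α.app V (z.2 + z'.2) = _
          rw [map_add, map_add]
          abel
        map_smul' := fun r z => by
          show η.app V (r • z.1) - α.app V (r • z.2) = r • _
          rw [Scheme.Modules.Hom.app_smul, Scheme.Modules.Hom.app_smul, smul_sub] }
    have hq : Function.Surjective q := fun n => by
      obtain ⟨p, hp⟩ := hα V hV n
      exact ⟨(0, -p), by
        show η.app V 0 - α.app V (-p) = n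
        rw [map_zero, map_neg, zero_sub, neg_neg, hp]⟩
    haveI : Module.Flat Γ(X, V) (Γ(M, V) × Γ(P', V)) := FlatMisc.flat_prod
    haveI := FlatSyz5.flat_ker Γ(X, V) q hq
    let φ : Γ(E, V) →ₗ[Γ(X, V)] LinearMap.ker q := LinearMap.codRestrict _
      { toFun := fun e => (pM.app V e, pP.app V e)
        map_add' := fun a b => Prod.ext (map_add _ a b) (map_add _ a b)
        map_smul' := fun r e => Prod.ext (Scheme.Modules.Hom.app_smul _ r e) (Scheme.Modules.Hom.app_smul _ r e) }
      fun e => by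
        show η.app V (pM.app V e) - α.app V (pP.app V e) = 0
        rw [hsq, sub_self]
    have hφ : Function.Bijective φ := by
      refine ⟨(injective_iff_map_eq_zero φ).2 fun e he => hinj V e ?_ ?_, fun ⟨z, hz⟩ => ?_⟩
      · exact congrArg (fun w : LinearMap.ker q => w.1.1) he
      · exact congrArg (fun w : LinearMap.ker q => w.1.2) he
      · obtain ⟨e, h1, h2⟩ := hex V z.1 z.2 (sub_eq_zero.1 hz)
        exact ⟨e, Subtype.ext (Prod.ext h1 h2)⟩
    exact Module.Flat.of_linearEquiv (LinearEquiv.ofBijective φ hφ)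
  · have hη : Function.Bijective (η.app V) := by
      have heq : j ''ᵁ (j ⁻¹ᵁ V) = V := by
        rw [Scheme.Hom.image_preimage_eq_opensRange_inf, hU.opensRange_fromSpec]
        exact inf_eq_right.2 hVU
      have : IsIso (homOfLE (j.image_preimage_le V)) :=
        ⟨homOfLE heq.ge, Subsingleton.elim _ _, Subsingleton.elim _ _⟩
      show Function.Bijective (M.presheaf.map (homOfLE (j.image_preimage_le V)).op)
      exact ConcreteCategory.bijective_of_isIso _
    let φ : Γ(E, V) →ₗ[Γ(X, V)] Γ(P', V) :=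
      { toFun := pP.app V
        map_add' := map_add _
        map_smul' := Scheme.Modules.Hom.app_smul _ }
    have hφ : Function.Bijective φ := by
      refine ⟨(injective_iff_map_eq_zero φ).2 fun e he => hinj V e (hη.1 ?_) he, fun p => ?_⟩
      · rw [hsq, show pP.app V e = 0 from he, map_zero, map_zero]
      · obtain ⟨m, hm⟩ := hη.2 (α.app V p)
        obtain ⟨e, -, he⟩ := hex V m p hm
        exact ⟨e, he⟩
    exact Module.Flat.of_linearEquiv (LinearEquiv.ofBijective φ hφ)

theorem exists_flat_cover [CompactSpace X]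
    (hd : ∀ V W : X.Opens, IsAffineOpen V → IsAffineOpen W → IsAffineOpen (V ⊓ W))
    {M : X.Modules} (hM : Coh.IsQCoh M) :
    ∃ (F : X.Modules) (π : F ⟶ M), Coh.IsQCoh F ∧ FlatMod.IsFlat F ∧ Epi π := by
  classical
  have key : ∀ s : Finset X.affineOpens, ∃ (F : X.Modules) (π : F ⟶ M), Coh.IsQCoh F ∧ Epi π ∧
      ∀ x ∈ (s.sup fun U => U.1), FlatMod.IsFlatAt F x := by
    intro s
    induction s using Finset.induction_on with
    | empty => exact ⟨M, 𝟙 M, hM, inferInstance, fun x hx => False.elim (by simpa using hx)⟩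
    | insert U s _ ih =>
      obtain ⟨F, π, hF, hπ, hflat⟩ := ih
      obtain ⟨E, π', hE, hπ', hflat'⟩ := exists_step hd hF U.2 _ hflat
      refine ⟨E, π' ≫ π, hE, epi_comp _ _, fun x hx => hflat' x ?_⟩
      rw [Finset.sup_insert, sup_comm] at hx
      exact hx
  obtain ⟨t, ht⟩ := isCompact_univ.elim_finite_subcover (fun U : X.affineOpens => (U.1 : Set X))
    (fun U => U.1.isOpen) fun x _ => by
      obtain ⟨_, ⟨U, hU, rfl⟩, hx, -⟩ :=
        X.isBasis_affineOpens.exists_subset_of_mem_open (Set.mem_univ x) isOpen_univ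
      exact Set.mem_iUnion.2 ⟨⟨U, hU⟩, hx⟩
  obtain ⟨F, π, hF, hπ, hflat⟩ := key t
  refine ⟨F, π, hF, fun x => hflat x ?_, hπ⟩
  obtain ⟨U, hU, hx⟩ : ∃ U ∈ t, x ∈ (U : X.affineOpens).1 := by simpa using ht (Set.mem_univ x)
  exact Finset.le_sup (f := fun U : X.affineOpens => U.1) hU hx

end Groth.Agent.FlatCover
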